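import Cfsg.Agent.MaxSub.Herm

/-!
Similitudes of a unitary form are maximal in the special linear group, dimension at least six (after S5643).
-/

set_option autoImplicit false
open Cfsg

namespace Cfsg.Agent.GeomMax32.Unitary

section Helpers

open Matrix Cfsg.Agent.MaxSub

variable {ι : Type} [Fintype ι] [DecidableEq ι] {F : Type*} [Field F]
variable {σ : F ≃+* F} {f : (ι → F) → (ι → F) → F}
variable (hf : Geo.IsUnitaryForm σ f)
include hf

theorem notMem_span_pair {a b c : ι → F} (φ : ι → F) (ha : φ ⬝ᵥ a = 0) (hb : φ ⬝ᵥ b = 0)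
    (hc : φ ⬝ᵥ c ≠ 0) : c ∉ Submodule.span F {a, b} := fun h => by
  obtain ⟨r, s, rfl⟩ := Submodule.mem_span_pair.mp h
  exact hc (by rw [dotProduct_add, dotProduct_smul, dotProduct_smul, ha, hb, smul_zero, smul_zero,
    add_zero])

theorem span_pair_eq (a b : ι → F) :
    Submodule.span F ({a, b} : Set (ι → F)) = Submodule.span F (Set.range ![a, b]) := by
  congr 1
  rw [Matrix.range_cons, Matrix.range_cons, Matrix.range_empty, Set.union_empty, Set.singleton_union]

theorem span_one_eq (a : ι → F) :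
    Submodule.span F ({a} : Set (ι → F)) = Submodule.span F (Set.range ![a]) := by
  congr 1
  simp

/-- An isotropic vector with prescribed values of fewer than half as many functionals. -/
theorem exists_iso [Finite F] {k : ℕ} (L : (ι → F) →ₗ[F] (Fin k → F))
    (hk : 2 * k < Fintype.card ι) (z₀ : ι → F) : ∃ z, L z = L z₀ ∧ f z z = 0 := by
  obtain ⟨u, hu, hne⟩ : ∃ u ∈ LinearMap.ker L, f u u ≠ 0 := by
    by_contra hc
    simp only [not_exists, not_and, not_not] at hc
    have h1 := finrank_le_half hf (totally_isotropic hf hc)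
    have h2 := LinearMap.finrank_range_add_finrank_ker L
    have h3 := Submodule.finrank_le (LinearMap.range L)
    simp at h2 h3
    omega
  have hu1 : L u = 0 := hu
  set w := z₀ - (f z₀ u / f u u) • u with hw
  have hwu : f w u = 0 := by rw [hw, hsub_left hf, hf.smul_left, div_mul_cancel₀ _ hne, sub_self]
  have hfix : ∀ v : ι → F, σ (f v v) = f v v := fun v => (hf.herm v v).symm
  obtain ⟨s, hs⟩ := exists_norm hf (r := -f w w / f u u)
    (by rw [map_div₀, map_neg, hfix, hfix])
  refine ⟨w + s • u, by simp [hw, hu1], ?_⟩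
  rw [hf.add_left, hadd_right hf, hadd_right hf, hf.smul_left, hsmul_right hf, hf.smul_left,
    hsmul_right hf, hwu, hswap_zero hf hwu]
  field_simp at hs
  linear_combination hs

/-- An isotropic vector with prescribed products with at most half as many vectors, one of the
products being non-zero. -/
theorem exists_iso_vec [Finite F] {k : ℕ} (b : Fin k → ι → F) (hk : 2 * k ≤ Fintype.card ι)
    (z₀ : ι → F) {j : Fin k} (hj : f z₀ (b j) ≠ 0) :
    ∃ z, (∀ i, f z (b i) = f z₀ (b i)) ∧ f z z = 0 := by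
  set L : (ι → F) →ₗ[F] (Fin k → F) := LinearMap.pi fun i => hl hf (b i)
  suffices h : ∃ z, L z = L z₀ ∧ f z z = 0 by
    obtain ⟨z, hz, hzz⟩ := h
    exact ⟨z, fun i => by simpa [L] using congrFun hz i, hzz⟩
  have hfix : ∀ v : ι → F, σ (f v v) = f v v := fun v => (hf.herm v v).symm
  by_cases h1 : ∃ u ∈ LinearMap.ker L, f u u ≠ 0
  · obtain ⟨u, hu, hne⟩ := h1
    have hu1 : L u = 0 := hu
    set w := z₀ - (f z₀ u / f u u) • u with hw
    have hwu : f w u = 0 := by rw [hw, hsub_left hf, hf.smul_left, div_mul_cancel₀ _ hne, sub_self]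
    obtain ⟨s, hs⟩ := exists_norm hf (r := -f w w / f u u)
      (by rw [map_div₀, map_neg, hfix, hfix])
    refine ⟨w + s • u, by simp [hw, hu1], ?_⟩
    rw [hf.add_left, hadd_right hf, hadd_right hf, hf.smul_left, hsmul_right hf, hf.smul_left,
      hsmul_right hf, hwu, hswap_zero hf hwu]
    field_simp at hs
    linear_combination hs
  simp only [not_exists, not_and, not_not] at h1
  by_cases h2 : ∃ u ∈ LinearMap.ker L, f u z₀ ≠ 0
  · obtain ⟨u, hu, hne⟩ := h2
    have hu1 : L u = 0 := hu
    obtain ⟨t, ht⟩ := exists_trace hf (r := -f z₀ z₀) (by rw [map_neg, hfix])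
    set s := t / f u z₀ with hs
    have e1 : s * f u z₀ = t := div_mul_cancel₀ _ hne
    refine ⟨z₀ + s • u, by simp [hu1], ?_⟩
    rw [hf.add_left, hadd_right hf, hadd_right hf, hf.smul_left, hsmul_right hf, hf.smul_left,
      hsmul_right hf, h1 u hu, hf.herm z₀ u, ← map_mul, e1]
    linear_combination ht
  simp only [not_exists, not_and, not_not] at h2
  exfalso
  set U := Submodule.span F (Set.range b)
  have hle : LinearMap.ker L ≤ U := fun u hu => by
    by_contra hn
    obtain ⟨z, hz1, hz2⟩ := exists_dual hf hn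
    have hzK : z ∈ LinearMap.ker L := by
      ext i
      simpa [L] using (hz2 (b i) (Submodule.subset_span ⟨i, rfl⟩)).1
    rw [totally_isotropic hf h1 z hzK u hu] at hz1
    exact zero_ne_one hz1
  have e : LinearMap.ker L = U := by
    refine Submodule.eq_of_le_of_finrank_le hle ?_
    have h3 := LinearMap.finrank_range_add_finrank_ker L
    have h4 := Submodule.finrank_le (LinearMap.range L)
    have h5 : Module.finrank F U ≤ k := by
      simpa [Set.finrank, U] using finrank_range_le_card (R := F) b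
    simp at h3 h4
    omega
  have := h2 (b j) (e ▸ Submodule.subset_span ⟨j, rfl⟩)
  exact hj (hswap_zero hf this)

/-- An isotropic vector whose value at `a` is one and which is orthogonal to `U`. -/
theorem exists_iso_dual [Finite F] {U : Submodule F (ι → F)} {a : ι → F} (ha : a ∉ U)
    {k : ℕ} (b : Fin k → (ι → F)) (hb : U = Submodule.span F (Set.range b))
    (hk : 2 * (k + 1) ≤ Fintype.card ι) :
    ∃ z, f z a = 1 ∧ f z z = 0 ∧ ∀ u ∈ U, f z u = 0 ∧ f u z = 0 := by
  obtain ⟨z₀, hz1, hz2⟩ := exists_dual hf ha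
  obtain ⟨z, hz, hzz⟩ := exists_iso_vec hf (Fin.cons a b) hk z₀ (j := 0) (by simp [hz1])
  have hbz : ∀ i, f z (b i) = 0 := fun i => by
    have h := hz i.succ
    simp at h
    rw [h]
    exact (hz2 _ (hb ▸ Submodule.subset_span ⟨i, rfl⟩)).1
  refine ⟨z, by simpa [hz1] using hz 0, hzz, fun u hu => ?_⟩
  have h0 : f u z = 0 := by
    have hker : U ≤ LinearMap.ker (hl hf z) := by
      rw [hb, Submodule.span_le]
      rintro _ ⟨i, rfl⟩
      simpa using hswap_zero hf (hbz i)
    simpa using hker hu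
  exact ⟨hswap_zero hf h0, h0⟩

/-- Every vector of a hyperplane is a sum of isotropic vectors of that hyperplane. -/
theorem split_isotropic [Finite F] (hn : 5 ≤ Fintype.card ι) {φ x : ι → F} (hx : φ ⬝ᵥ x = 0) :
    ∃ a b, φ ⬝ᵥ a = 0 ∧ φ ⬝ᵥ b = 0 ∧ f a a = 0 ∧ f b b = 0 ∧ x = a + b := by
  by_cases hxx : f x x = 0
  · exact ⟨x, 0, hx, dotProduct_zero φ, hxx, hzero_left hf 0, (add_zero x).symm⟩
  let P : (ι → F) →ₗ[F] F :=
    { toFun := fun y => φ ⬝ᵥ y, map_add' := dotProduct_add φ, map_smul' := fun c y => dotProduct_smul c φ y }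
  obtain ⟨z, hz, hzz⟩ := exists_iso hf (LinearMap.pi ![P, hl hf x]) (by omega) x
  have hz1 : φ ⬝ᵥ z = 0 := by simpa [P, hx] using congrFun hz 0
  have hz2 : f z x = f x x := by simpa using congrFun hz 1
  obtain ⟨t, ht⟩ := exists_trace hf (r := -f x x)
    (by rw [map_neg, ← hf.herm])
  set μ := t / f x x with hμ
  refine ⟨x + μ • z, -(μ • z), by simp [dotProduct_add, hx, hz1], by simp [hz1], ?_, ?_, by simp⟩
  · rw [hf.add_left, hadd_right hf, hadd_right hf, hf.smul_left, hsmul_right hf, hf.smul_left,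
      hsmul_right hf, hzz, hf.herm x z, hz2, ← map_mul, hμ, div_mul_cancel₀ _ hxx]
    linear_combination ht
  · rw [← neg_smul, hf.smul_left, hsmul_right hf, hzz, mul_zero, mul_zero]

/-- The vectors `w` whose functional is in the dual set of `v`. -/
def repSet (M : Subgroup (GL ι F)) (v : ι → F) : AddSubgroup (ι → F) where
  carrier := {w | rep f w ∈ dualSet M v}
  zero_mem' := by
    show rep f 0 ∈ dualSet M v
    rw [hrep_zero hf]; exact zero_mem _
  add_mem' := fun {a b} ha hb => by
    show rep f (a + b) ∈ dualSet M v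
    rw [hrep_add hf]; exact add_mem ha hb
  neg_mem' := fun {a} ha => by
    show rep f (-a) ∈ dualSet M v
    rw [← neg_one_smul F a, hrep_smul hf, map_neg, map_one, neg_one_smul]; exact neg_mem ha

variable [Finite F] (hn : 6 ≤ Fintype.card ι) {M : Subgroup (GL ι F)}
variable (hM : ∀ v c, f v v = 0 → c + σ c = 0 → ut f v c ∈ M) {c₀ : F}
variable (hc₀ : c₀ ≠ 0) (hskew : c₀ + σ c₀ = 0)
include hn hM hc₀ hskew

theorem line_mem {v x z : ι → F} (hx : x ∈ repSet hf M v) (hz : f z z = 0) (hzv : f v z = 0) :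
    (c₀ * f x z) • z ∈ repSet hf M v := by
  have h1 : rep f ((ut f z c₀ : Matrix ι ι F) *ᵥ x) ∈ dualSet M v := by
    have h := conj_mem_dualSet (hM z c₀ hz hskew) (show rep f x ∈ dualSet M v from hx)
    rwa [hrep_vecMul_inv hf (ut_mem_isom hf hz hskew), ut_mulVec hf hz c₀ v, hzv, mul_zero,
      zero_smul, add_zero] at h
  have h2 : rep f (-x + (ut f z c₀ : Matrix ι ι F) *ᵥ x) ∈ dualSet M v :=
    add_mem (neg_mem (show x ∈ repSet hf M v from hx)) (show _ ∈ repSet hf M v from h1)
  rw [ut_mulVec hf hz] at h2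
  show rep f _ ∈ dualSet M v
  simpa using h2

theorem all_lines {v x z : ι → F} (hxv : f v x = 0) (hx : x ∈ repSet hf M v)
    (hxi : x ∉ Submodule.span F {v, z}) (hz : f z z = 0) (hzv : f v z = 0)
    (hzi : z ∉ Submodule.span F {v, x}) (r : F) : r • z ∈ repSet hf M v := by
  by_cases hr : r = 0
  · rw [hr, zero_smul]; exact zero_mem _
  set s := r / (c₀ * c₀) with hs
  obtain ⟨za, hza1, hza2⟩ := exists_dual hf hzi
  obtain ⟨wa, hwa1, hwa2⟩ := exists_dual hf hxi
  let z₀ := za + σ s • wa
  have ez : f z₀ z = 1 := by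
    simp [z₀, hf.add_left, hf.smul_left, hza1, (hwa2 z (Submodule.subset_span (by simp))).1]
  obtain ⟨z₁, hz₁, hz₁i⟩ := exists_iso_vec hf ![v, x, z] (by omega) z₀ (j := 2)
    (by simp [ez])
  have hv : f z₁ v = 0 := by
    rw [show f z₁ v = f z₀ v from hz₁ 0]
    simp [z₀, hf.add_left, hf.smul_left, (hza2 v (Submodule.subset_span (by simp))).1,
      (hwa2 v (Submodule.subset_span (by simp))).1]
  have hxz₁ : f z₁ x = σ s := by
    rw [show f z₁ x = f z₀ x from hz₁ 1]
    simp [z₀, hf.add_left, hf.smul_left, (hza2 x (Submodule.subset_span (by simp))).1, hwa1]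
  have hzz₁ : f z₁ z = 1 := by rw [show f z₁ z = f z₀ z from hz₁ 2]; exact ez
  have h1 := line_mem hf hn hM hc₀ hskew hx hz₁i (hswap_zero hf hv)
  rw [hf.herm x z₁, hxz₁, hf.involutive] at h1
  have h2 := line_mem hf hn hM hc₀ hskew h1 hz hzv
  rw [hf.smul_left, hzz₁, mul_one, hs] at h2
  rwa [← mul_assoc, mul_div_cancel₀ _ (mul_ne_zero hc₀ hc₀)] at h2

/-- A centre with a foreign axis has every axis. -/
theorem dual_full {v w : ι → F} (hw : rep f w ∈ dualSet M v) (hv0 : v ≠ 0)
    (hwv : w ∉ Submodule.span F {v}) (φ : ι → F) (hφ : φ ⬝ᵥ v = 0) : φ ∈ dualSet M v := by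
  have hvw : f v w = 0 := by rw [← hrep_dot hf]; exact hw.1
  -- an isotropic vector orthogonal to `v`, `w`, outside their span
  obtain ⟨z₂, hz₂, hz₂v, hz₂i⟩ :
      ∃ z, f z z = 0 ∧ f v z = 0 ∧ z ∉ Submodule.span F {v, w} := by
    let L : (ι → F) →ₗ[F] (Fin 2 → F) := LinearMap.pi ![hl hf v, hl hf w]
    obtain ⟨y, hy, hyU⟩ : ∃ y ∈ LinearMap.ker L, y ∉ Submodule.span F {v, w} := by
      refine SetLike.not_le_iff_exists.mp fun hle => ?_
      have h1 := Submodule.finrank_mono hle
      rw [span_pair_eq hf] at h1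
      have h2 := LinearMap.finrank_range_add_finrank_ker L
      have h3 := Submodule.finrank_le (LinearMap.range L)
      have h4 := finrank_range_le_card (R := F) ![v, w]
      rw [Set.finrank] at h4
      simp at h2 h3 h4
      omega
    obtain ⟨z, hz1, hz2, hz3⟩ := exists_iso_dual hf hyU ![v, w] (span_pair_eq hf v w) (by omega)
    refine ⟨z, hz2, (hz3 v (Submodule.subset_span (by simp))).2, fun h => ?_⟩
    obtain ⟨r, s, rfl⟩ := Submodule.mem_span_pair.mp h
    have hyv : f y v = 0 := by simpa [L] using congrFun hy 0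
    have hyw : f y w = 0 := by simpa [L] using congrFun hy 1
    rw [hf.add_left, hf.smul_left, hf.smul_left, hswap_zero hf hyv, hswap_zero hf hyw] at hz1
    simp at hz1
  have hsym : ∀ {x z : ι → F}, x ∉ Submodule.span F {v} → z ∉ Submodule.span F {v, x} →
      x ∉ Submodule.span F {v, z} := fun {x z} hx hz h => by
    obtain ⟨r, s, hrs⟩ := Submodule.mem_span_pair.mp h
    by_cases hs : s = 0
    · exact hx (Submodule.mem_span_singleton.mpr ⟨r, by rw [← hrs, hs, zero_smul, add_zero]⟩)
    · refine hz (Submodule.mem_span_pair.mpr ⟨-(s⁻¹ * r), s⁻¹, ?_⟩)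
      rw [← hrs, smul_add, smul_smul, smul_smul, inv_mul_cancel₀ hs, one_smul, ← add_assoc,
        ← add_smul, neg_add_cancel, zero_smul, zero_add]
  have hline : ∀ z, f z z = 0 → f v z = 0 → z ∉ Submodule.span F {v, w} → z ∈ repSet hf M v :=
    fun z hz hzv hzi => by
      simpa using all_lines hf hn hM hc₀ hskew hvw (show w ∈ repSet hf M v from hw)
        (hsym hwv hzi) hz hzv hzi 1
  have h2 := hline z₂ hz₂ hz₂v hz₂i
  have hz₂v' : z₂ ∉ Submodule.span F {v} := fun h =>
    hz₂i (Submodule.span_mono (by simp) h)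
  have hiso : ∀ z, f z z = 0 → f v z = 0 → z ∈ repSet hf M v := by
    intro z hz hzv
    by_cases h1 : z ∈ Submodule.span F {v, w}
    swap
    · exact hline z hz hzv h1
    by_cases h2' : z ∈ Submodule.span F {v, z₂}
    swap
    · simpa using all_lines hf hn hM hc₀ hskew hz₂v h2 (hsym hz₂v' h2') hz hzv h2' 1
    -- then `z` is a multiple of `v`, and `v` is isotropic
    obtain ⟨r, hr⟩ : ∃ r : F, r • v = z := by
      obtain ⟨r, s, hrs⟩ := Submodule.mem_span_pair.mp h2'
      by_cases hs : s = 0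
      · exact ⟨r, by rw [← hrs, hs, zero_smul, add_zero]⟩
      · refine absurd ?_ hz₂i
        have he : z₂ = s⁻¹ • (z - r • v) := by
          rw [← hrs, add_sub_cancel_left, smul_smul, inv_mul_cancel₀ hs, one_smul]
        rw [he]
        exact Submodule.smul_mem _ _ (sub_mem h1 (Submodule.smul_mem _ _
          (Submodule.subset_span (by simp))))
    subst hr
    by_cases hr0 : r = 0
    · rw [hr0, zero_smul]; exact zero_mem _
    have hvv : f v v = 0 := by
      rw [hsmul_right hf] at hzv
      exact (mul_eq_zero.mp hzv).resolve_left (by simpa using hr0)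
    have h3 : f (z₂ + r • v) (z₂ + r • v) = 0 := by
      rw [hf.add_left, hadd_right hf, hadd_right hf, hz₂, hf.smul_left, hsmul_right hf,
        hsmul_right hf, hf.smul_left, hvv, hz₂v, hswap_zero hf hz₂v]
      ring
    have h4 := hline _ h3 (by rw [hadd_right hf, hz₂v, hsmul_right hf, hvv, mul_zero, add_zero])
      fun h => hz₂i (by simpa using sub_mem h h1)
    simpa using sub_mem h4 h2
  obtain ⟨y, rfl⟩ : ∃ y, rep f y = φ := by
    let T : (ι → F) →ₗ[F] (ι → F) :=
      { toFun := fun u i => σ (rep f u i)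
        map_add' := fun a b => by funext i; simp [hrep_add hf]
        map_smul' := fun c a => by funext i; simp [hrep_smul hf, hf.involutive] }
    have hinj : Function.Injective T := by
      rw [injective_iff_map_eq_zero]
      intro u hu
      by_contra hu0
      obtain ⟨x, hx⟩ := (hf.nondegenerate u hu0).1
      apply hx
      rw [← hrep_dot hf, show rep f u = 0 from funext fun i => by
        simpa [T] using congrFun hu i, zero_dotProduct]
    obtain ⟨y, hy⟩ := LinearMap.injective_iff_surjective.mp hinj (fun i => σ (φ i))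
    exact ⟨y, funext fun i => σ.injective (congrFun hy i)⟩
  rw [hrep_dot hf] at hφ
  have hv' : rep f v ⬝ᵥ y = 0 := by rw [hrep_dot hf]; exact hswap_zero hf hφ
  obtain ⟨a, b, ha, hb, haa, hbb, rfl⟩ := split_isotropic hf (by omega) hv'
  rw [hrep_dot hf] at ha hb
  exact add_mem (hiso a haa (hswap_zero hf ha)) (hiso b hbb (hswap_zero hf hb))

theorem main {g : GL ι F} (hg : g ∈ M) (hgn : g ∉ Geo.similarityGroup f) :
    Geo.specialLinear ι F ≤ M := by
  -- an isotropic centre with a foreign axis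
  obtain ⟨v, hv0, hvv, w, hw, hwv⟩ : ∃ v, v ≠ 0 ∧ f v v = 0 ∧ ∃ w,
      rep f w ∈ dualSet M v ∧ w ∉ Submodule.span F {v} := by
    by_contra hc
    simp only [not_exists, not_and, not_not] at hc
    have himage : ∀ u, u ≠ 0 → f u u = 0 → ∃ μ : F,
        ∀ x, f ((g : Matrix ι ι F) *ᵥ x) ((g : Matrix ι ι F) *ᵥ u) = μ * f x u := by
      intro u hu huu
      set u' := (g : Matrix ι ι F) *ᵥ u
      have h1 := conj_mem_dualSet hg
        (show c₀ • rep f u ∈ dualSet M u from ⟨ut_dot hf huu c₀, hM u c₀ huu hskew⟩)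
      obtain ⟨w, hw⟩ : ∃ w, rep f w = (c₀ • rep f u) ᵥ* ((g⁻¹ : GL ι F) : Matrix ι ι F) := by
        let T : (ι → F) →ₗ[F] (ι → F) :=
          { toFun := fun u i => σ (rep f u i)
            map_add' := fun a b => by funext i; simp [hrep_add hf]
            map_smul' := fun c a => by funext i; simp [hrep_smul hf, hf.involutive] }
        have hinj : Function.Injective T := by
          rw [injective_iff_map_eq_zero]
          intro u hu
          by_contra hu0
          obtain ⟨x, hx⟩ := (hf.nondegenerate u hu0).1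
          apply hx
          rw [← hrep_dot hf, show rep f u = 0 from funext fun i => by
            simpa [T] using congrFun hu i, zero_dotProduct]
        obtain ⟨y, hy⟩ := LinearMap.injective_iff_surjective.mp hinj
          (fun i => σ (((c₀ • rep f u) ᵥ* ((g⁻¹ : GL ι F) : Matrix ι ι F)) i))
        exact ⟨y, funext fun i => σ.injective (congrFun hy i)⟩
      rw [← hw] at h1
      have hu' : u' ≠ 0 := mulVec_ne_zero g hu
      have hw0 : w ≠ 0 := fun h0 => by
        obtain ⟨x, hx⟩ := (hf.nondegenerate u hu).1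
        have h := congrArg (fun φ => φ ⬝ᵥ ((g : Matrix ι ι F) *ᵥ x)) hw
        simp only [vecMul_inv_dotProduct, h0, hrep_zero hf, zero_dotProduct, smul_dotProduct,
          hrep_dot hf, smul_eq_mul] at h
        exact mul_ne_zero hc₀ hx h.symm
      have hwu : f u' w = 0 := by rw [← hrep_dot hf]; exact h1.1
      have huu' : f u' u' = 0 := by
        by_contra hne
        -- commute with an isotropic transvection to move the centre
        have hnot : u' ∉ Submodule.span F {w} := fun h => by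
          obtain ⟨r, hr⟩ := Submodule.mem_span_singleton.mp h
          apply hne
          nth_rewrite 2 [← hr]
          rw [hsmul_right hf, hwu, mul_zero]
        obtain ⟨z, hz1, hz2, hz3⟩ := exists_iso_dual hf hnot ![w] (span_one_eq hf w) (by omega)
        have hzw : f z w = 0 := (hz3 w (Submodule.mem_span_singleton_self w)).1
        have hz0 : z ≠ 0 := fun h0 => by rw [h0, hzero_left hf] at hz1; exact zero_ne_one hz1
        have hzu : (c₀ • rep f z) ⬝ᵥ u' = c₀ := by
          rw [smul_dotProduct, hrep_dot hf, hf.herm, hz1, map_one, smul_eq_mul, mul_one]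
        have h2 := comm_mem_dualSet (⟨ut_dot hf hz2 c₀, hM z c₀ hz2 hskew⟩ :
          c₀ • rep f z ∈ dualSet M z) h1 (by rw [hrep_dot hf, hzw])
        rw [hzu, ← hf.involutive c₀, ← hrep_smul hf] at h2
        obtain ⟨r, hr⟩ := Submodule.mem_span_singleton.mp (hc z hz0 hz2 _ h2)
        have h3 : f (r • z) u' = 0 := by
          rw [hr, hf.smul_left, hswap_zero hf hwu, mul_zero]
        rw [hf.smul_left, hz1, mul_one] at h3
        rw [h3, zero_smul, eq_comm, smul_eq_zero] at hr
        exact hr.elim (by simpa using hc₀) hw0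
      obtain ⟨r, hr⟩ := Submodule.mem_span_singleton.mp (hc u' hu' huu' w h1)
      have hr0 : r ≠ 0 := fun h => hw0 (by rw [← hr, h, zero_smul])
      refine ⟨c₀ / σ r, fun x => ?_⟩
      have h := congrArg (fun φ => φ ⬝ᵥ ((g : Matrix ι ι F) *ᵥ x)) hw
      simp only [← hr, hrep_smul hf, smul_vecMul, smul_dotProduct, vecMul_inv_dotProduct,
        hrep_dot hf, smul_eq_mul] at h
      rw [div_mul_eq_mul_div, eq_div_iff (by simpa using hr0), mul_comm]
      exact h
    choose μ hμ using himage
    -- all multipliers agree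
    have hpair : ∀ a b, ∀ (ha : a ≠ 0) (ha' : f a a = 0) (hb : b ≠ 0) (hb' : f b b = 0),
        f a b ≠ 0 → μ b hb hb' = σ (μ a ha ha') := by
      intro a b ha ha' hb hb' hab
      have h1 := hμ b hb hb' a
      rw [hf.herm, hμ a ha ha' b, map_mul, ← hf.herm a b] at h1
      exact (mul_right_cancel₀ hab h1).symm
    have hconn : ∀ a b : ι → F, a ≠ 0 → b ≠ 0 →
        ∃ z, z ≠ 0 ∧ f z z = 0 ∧ f z a ≠ 0 ∧ f z b ≠ 0 := by
      intro a b ha hb
      obtain ⟨x, hx1⟩ := (hf.nondegenerate a ha).1
      obtain ⟨y, hy1⟩ := (hf.nondegenerate b hb).1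
      obtain ⟨z₀, -, h1, h2⟩ := exists_mem_notMem_notMem (P := (⊤ : Submodule F (ι → F)))
        (Q := LinearMap.ker (hl hf a)) (R := LinearMap.ker (hl hf b))
        ⟨x, Submodule.mem_top, by simpa using hx1⟩ ⟨y, Submodule.mem_top, by simpa using hy1⟩
      obtain ⟨z, hz, hzz⟩ := exists_iso hf (LinearMap.pi ![hl hf a, hl hf b]) (by omega) z₀
      have e1 : f z a = f z₀ a := by simpa using congrFun hz 0
      have e2 : f z b = f z₀ b := by simpa using congrFun hz 1
      have h1' : f z a ≠ 0 := by rw [e1]; simpa using h1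
      exact ⟨z, fun h => h1' (by rw [h, hzero_left hf]), hzz, h1', by rw [e2]; simpa using h2⟩
    have hsame : ∀ a b, ∀ (ha : a ≠ 0) (ha' : f a a = 0) (hb : b ≠ 0) (hb' : f b b = 0),
        μ a ha ha' = μ b hb hb' := by
      intro a b ha ha' hb hb'
      obtain ⟨z, hz0, hzz, h1, h2⟩ := hconn a b ha hb
      rw [hpair z a hz0 hzz ha ha' h1, hpair z b hz0 hzz hb hb' h2]
    -- some isotropic vector
    obtain ⟨x₀, hx₀⟩ : ∃ x : ι → F, x ≠ 0 := by
      haveI : Nonempty ι := Fintype.card_pos_iff.mp (by omega)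
      exact exists_ne 0
    obtain ⟨e, he0, hee, -, -⟩ := hconn x₀ x₀ hx₀ hx₀
    have hall : ∀ x y, f ((g : Matrix ι ι F) *ᵥ x) ((g : Matrix ι ι F) *ᵥ y) =
        μ e he0 hee * f x y := by
      intro x y
      obtain ⟨a, b, -, -, haa, hbb, rfl⟩ :=
        split_isotropic hf (φ := (0 : ι → F)) (x := y) (by omega) (zero_dotProduct y)
      have h1 : ∀ a, f a a = 0 → f ((g : Matrix ι ι F) *ᵥ x) ((g : Matrix ι ι F) *ᵥ a) =
          μ e he0 hee * f x a := fun a haa => by
        by_cases ha : a = 0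
        · rw [ha, mulVec_zero, hzero_right hf, hzero_right hf, mul_zero]
        · rw [hμ a ha haa x, hsame a e ha haa he0 hee]
      rw [mulVec_add, hadd_right hf, hadd_right hf, h1 a haa, h1 b hbb, mul_add]
    have hne : μ e he0 hee ≠ 0 := fun h0 => by
      obtain ⟨x, hx⟩ := (hf.nondegenerate _ (mulVec_ne_zero g he0)).1
      rw [← mulVec_inv_mulVec g x, hall, h0, zero_mul] at hx
      exact hx rfl
    exact hgn ⟨Units.mk0 _ hne, hall⟩
  have hfull := dual_full hf hn hM hc₀ hskew hw hv0 hwv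
  -- isotropic centres next to `v`
  have hstep : ∀ a, (∀ φ, φ ⬝ᵥ a = 0 → φ ∈ dualSet M a) → ∀ u, f u u = 0 → f a u ≠ 0 →
      ∀ φ, φ ⬝ᵥ u = 0 → φ ∈ dualSet M u := by
    intro a ha u huu hau
    have hu0 : u ≠ 0 := fun h => hau (by rw [h, hzero_right hf])
    let L : (ι → F) →ₗ[F] (Fin 2 → F) := LinearMap.pi ![hl hf u, hl hf a]
    obtain ⟨y, hy, hyu⟩ : ∃ y ∈ LinearMap.ker L, y ∉ Submodule.span F {u} := by
      refine SetLike.not_le_iff_exists.mp fun hle => ?_
      have h1 := Submodule.finrank_mono hle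
      have h2 := LinearMap.finrank_range_add_finrank_ker L
      have h3 := Submodule.finrank_le (LinearMap.range L)
      rw [finrank_span_singleton hu0] at h1
      simp at h2 h3
      omega
    have hyu' : f y u = 0 := by simpa [L] using congrFun hy 0
    have hya : f y a = 0 := by simpa [L] using congrFun hy 1
    have h1 := comm_mem_dualSet (⟨ut_dot hf huu c₀, hM u c₀ huu hskew⟩ :
      c₀ • rep f u ∈ dualSet M u)
      (ha _ (show rep f y ⬝ᵥ a = 0 by rw [hrep_dot hf, hswap_zero hf hya]))
      (by rw [hrep_dot hf, hswap_zero hf hyu'])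
    rw [smul_dotProduct, hrep_dot hf, smul_eq_mul, ← hf.involutive (c₀ * f a u),
      ← hrep_smul hf] at h1
    refine dual_full hf hn hM hc₀ hskew h1 hu0 fun h => hyu ?_
    have hne : σ (c₀ * f a u) ≠ 0 := by simpa using mul_ne_zero hc₀ hau
    have h2 := Submodule.smul_mem _ (σ (c₀ * f a u))⁻¹ h
    rwa [smul_smul, inv_mul_cancel₀ hne, one_smul] at h2
  have hiso : ∀ u, f u u = 0 → ∀ φ, φ ⬝ᵥ u = 0 → φ ∈ dualSet M u := by
    intro u huu φ hφ
    by_cases hu0 : u = 0
    · subst hu0; exact ⟨hφ, by rw [tv_zero_left]; exact one_mem M⟩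
    -- a common non-orthogonal isotropic vector
    obtain ⟨x, hx⟩ := (hf.nondegenerate v hv0).1
    obtain ⟨y, hy⟩ := (hf.nondegenerate u hu0).1
    obtain ⟨z₀, -, h1, h2⟩ := exists_mem_notMem_notMem (P := (⊤ : Submodule F (ι → F)))
      (Q := LinearMap.ker (hl hf v)) (R := LinearMap.ker (hl hf u))
      ⟨x, Submodule.mem_top, by simpa using hx⟩ ⟨y, Submodule.mem_top, by simpa using hy⟩
    obtain ⟨z, hz, hzz⟩ := exists_iso hf (LinearMap.pi ![hl hf v, hl hf u]) (by omega) z₀
    have e1 : f z v = f z₀ v := by simpa using congrFun hz 0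
    have e2 : f z u = f z₀ u := by simpa using congrFun hz 1
    refine hstep z (hstep v hfull z hzz (hswap_ne_zero hf ?_)) u huu ?_ φ hφ
    · rw [e1]; simpa using h1
    · rw [e2]; simpa using h2
  refine specialLinear_le_of_tv_mem fun u φ hφ => ?_
  obtain ⟨a, b, ha, hb, haa, hbb, rfl⟩ := split_isotropic hf (by omega) hφ
  exact (add_mem (mem_centreSet.mpr (hiso a haa φ ha)) (mem_centreSet.mpr (hiso b hbb φ hb))
    : a + b ∈ centreSet M φ).2

end Helpers

open Matrix Cfsg.Agent.MaxSub


/-- For a finite field F and n ≥ 6, let σ be a field automorphism of F of order two and f a non-degenerate unitary form on F^n with respect to σ. Then the elements of SL_n(F) that are similarities of f form a maximal subgroup of SL_n(F). -/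
theorem maximal {F : Type*} [Field F] [Fintype F] (n : ℕ) (hn : 6 ≤ n) (σ : F ≃+* F) (f : (Fin n → F) → (Fin n → F) → F) (hf : Cfsg.Geo.IsUnitaryForm σ f) : Cfsg.Geo.IsMaximalIn (Cfsg.Geo.specialLinear (Fin n) F) (Cfsg.Geo.similarityGroup f ⊓ Cfsg.Geo.specialLinear (Fin n) F) := by
  obtain ⟨c₀, hc₀, hskew⟩ := exists_skew hf
  refine isMaximalIn_of inf_le_right ?_ fun M hHM hMK g hg hgH => ?_
  · -- a transvection which is not a similitude
    have h0 : NeZero n := ⟨by omega⟩
    obtain ⟨v, hv1, hvv, -⟩ := exists_iso_dual hf (U := ⊥) (a := (Pi.single 0 1 : Fin n → F))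
      (by simp) (![] : Fin 0 → Fin n → F) (by simp) (by simp; omega)
    have hv0 : v ≠ 0 := fun h => by simp [h, hzero_left hf] at hv1
    obtain ⟨y, hy⟩ := (hf.nondegenerate v hv0).2
    have hyv : y ∉ Submodule.span F {v} := fun h => by
      obtain ⟨r, rfl⟩ := Submodule.mem_span_singleton.mp h
      exact hy (by rw [hsmul_right hf, hvv, mul_zero])
    -- `φ` kills `v` and `y` and is non-zero
    obtain ⟨φ, hφ, x, hφx⟩ : ∃ φ : Fin n → F,
        (φ ⬝ᵥ v = 0 ∧ φ ⬝ᵥ y = 0) ∧ ∃ x, φ ⬝ᵥ x = 1 := by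
      have hlt : Submodule.span F (Set.range ![v, y]) < ⊤ := by
        refine lt_top_iff_ne_top.mpr fun h => ?_
        have h4 := finrank_range_le_card (R := F) ![v, y]
        rw [Set.finrank, h, finrank_top] at h4
        simp at h4
        omega
      obtain ⟨x, -, hx⟩ := SetLike.exists_of_lt hlt
      obtain ⟨φ, hφ, hφx⟩ := exists_annihilator hx
      exact ⟨φ, ⟨hφ v (Submodule.subset_span ⟨0, rfl⟩), hφ y (Submodule.subset_span ⟨1, rfl⟩)⟩,
        x, hφx⟩
    refine ⟨tv v φ, tv_mem_specialLinear v φ, fun hmem => ?_⟩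
    obtain ⟨c, hc⟩ := hmem.1
    have key : ∀ a b, φ ⬝ᵥ b = 0 → f a b + (φ ⬝ᵥ a) * f v b = (c : F) * f a b := by
      intro a b hb
      rw [← hc a b, tv_mulVec hφ.1, tv_mulVec hφ.1, hb, zero_smul, add_zero, hf.add_left,
        hf.smul_left]
    have hc1 : (c : F) = 1 := by
      have h := key v y hφ.2
      rw [hφ.1, zero_mul, add_zero] at h
      exact (mul_eq_right₀ hy).mp h.symm
    have h := key x y hφ.2
    rw [hc1, one_mul, hφx, one_mul] at h
    exact hy (by simpa using h)
  · refine main hf (by simpa using hn) (fun v c hv hc => hHM ⟨⟨1, fun a b => ?_⟩,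
      tv_mem_specialLinear _ _⟩) hc₀ hskew hg fun hs => hgH ⟨hs, hMK hg⟩
    exact (ut_mem_isom hf hv hc a b).trans (one_mul _).symm

end Cfsg.Agent.GeomMax32.Unitary
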