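import Cfsg.Agent.S5631
import Cfsg.Agent.S5634
import Cfsg.Agent.S5637
import Cfsg.Agent.S5639
import Cfsg.Agent.S5642
import Cfsg.Agent.S5886
import Cfsg.Agent.GeomMax32.Similitude
import Cfsg.Agent.GeomMax32.Unitary

/-!
The classes of geometric maximal subgroups of `SL n` in moderate dimension: the arguments of the
statements S5634, S5637, S5639, S5642, S5644 with their actual dimension bounds.
-/

set_option autoImplicit false
open Cfsg

namespace Cfsg.Agent.GeomMax32.Linear

section Decomposition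
open Cfsg.Agent.MaxSub Cfsg.Agent.MaxSub.Frame Matrix

/-- Decomposition stabilisers are maximal in dimension at least six. -/
theorem decomposition {F : Type*} [Field F] [Fintype F] (n : ℕ) (hn : 6 ≤ n) {t : ℕ} (m : ℕ) (D : Fin t → Submodule F (Fin n → F)) (hD : Cfsg.Geo.IsMDecomposition m D) (h1 : ¬ (m = 1 ∧ Fintype.card F ≤ 4)) (h2 : ¬ (m = 2 ∧ Fintype.card F = 2)) : Cfsg.Geo.IsMaximalIn (Cfsg.Geo.specialLinear (Fin n) F) (Cfsg.Geo.decompositionStabilizer D ⊓ Cfsg.Geo.specialLinear (Fin n) F) := by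
  classical
  obtain ⟨Φ, hΦ⟩ := Cfsg.Agent.S5635.exists_coords hD
  set Ψ := Φ.trans pairCoords with hΨdef
  have hΨ : ∀ i x, x ∈ D i ↔ ∀ y : Fin m × Fin t, y.2 ≠ i → Ψ x y = 0 := fun i x =>
    (hΦ i x).trans ⟨fun h y hy => congrFun (h y.2 hy) y.1, fun h j hj => funext fun a => h (a, j) hj⟩
  have hmt : t * m = n := by
    have := Φ.finrank_eq
    rw [Module.finrank_fintype_fun_eq_card, Fintype.card_fin, Module.finrank_pi_fintype] at this
    simpa [mul_comm] using this.symm
  have hm0 : m ≠ 0 := by rintro rfl; simp at hmt; omega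
  haveI : NeZero m := ⟨hm0⟩
  have ht2 : 2 ≤ t := hD.two_le
  set e := chart Ψ with he
  have hmem := map_mem_iff Ψ hD hΨ
  refine isMaximalIn_of inf_le_right ?_ ?_
  · set y₀ : Fin m × Fin t := (0, ⟨0, by omega⟩)
    set y₁ : Fin m × Fin t := (0, ⟨1, by omega⟩)
    have hne : y₀ ≠ y₁ := by simp [y₀, y₁, Fin.ext_iff]
    refine ⟨e.symm (el y₀ y₁ 1), ?_, fun h => ?_⟩
    · show Matrix.GeneralLinearGroup.det _ = 1
      rw [← det_chart Ψ, ← he, MulEquiv.apply_symm_apply]
      exact det_tv _ _
    · obtain ⟨σ, hσ⟩ := (hmem _).mp h.1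
      rw [← he, MulEquiv.apply_symm_apply, el_coe hne] at hσ
      have e1 : y₀.2 = σ y₁.2 := by
        by_contra hh
        have := hσ y₀ y₁ hh
        simp [transvection, hne] at this
      have e2 : y₁.2 = σ y₁.2 := by
        by_contra hh
        have := hσ y₁ y₁ hh
        simp [transvection, hne] at this
      exact hne (by simpa [y₀, y₁] using e1.trans e2.symm)
  · intro M hHM hMK g hg hgH
    set M' := M.map e.toMonoidHom with hM'
    have hB : HasBlocks M' := fun k hk hdet => by
      refine ⟨e.symm k, hHM ⟨(hmem _).mpr (by rwa [← he, MulEquiv.apply_symm_apply]), ?_⟩,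
        e.apply_symm_apply k⟩
      show Matrix.GeneralLinearGroup.det _ = 1
      rw [← det_chart Ψ, ← he, MulEquiv.apply_symm_apply, hdet]
    have hsl : M' ≤ Geo.specialLinear (Fin m × Fin t) F := by
      rintro - ⟨k, hk, rfl⟩
      show Matrix.GeneralLinearGroup.det (chart Ψ k) = 1
      rw [det_chart]
      exact hMK hk
    have hgn : ¬ BlockPerm (e g) := fun h => hgH ⟨(hmem g).mpr h, hMK hg⟩
    have hg' : e g ∈ M' := ⟨g, hg, rfl⟩
    have hle : Geo.specialLinear (Fin m × Fin t) F ≤ M' := by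
      by_cases hm1 : m = 1
      · subst hm1
        have hmon : HasMon M' := fun k ⟨σ, hσ⟩ hdet => hB k ⟨fun l => (σ (0, l)).2, fun x y hxy =>
          hσ x y fun e => hxy (by rw [e, show y = (0, y.2) from Prod.ext (Subsingleton.elim _ _) rfl])⟩ hdet
        refine specialLinear_le_of_mon hmon hsl (by simp; omega) ?_ hg' fun ⟨σ, hσ⟩ => hgn
          ⟨fun l => (σ (0, l)).2, fun x y hxy =>
            hσ x y fun e => hxy (by rw [e, show y = (0, y.2) from Prod.ext (Subsingleton.elim _ _) rfl])⟩
        rw [Nat.card_eq_fintype_card]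
        by_contra hq
        exact h1 ⟨rfl, by omega⟩
      · refine hB.specialLinear_le_of_cross (by omega) (hB.hasCross (by omega) (fun h => ⟨?_, ?_⟩) hg' hgn)
        · subst h; omega
        · rw [Nat.card_eq_fintype_card]
          have := Fintype.one_lt_card (α := F)
          by_contra hq
          exact h2 ⟨h, by omega⟩
    intro k hk
    obtain ⟨k', hk', hkk⟩ := hle (show e k ∈ Geo.specialLinear (Fin m × Fin t) F from by
      show Matrix.GeneralLinearGroup.det (chart Ψ k) = 1
      rw [det_chart]; exact hk)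
    exact e.injective hkk ▸ hk'

end Decomposition

section Tensor
open Matrix Cfsg.Agent.MaxSub Cfsg.Agent.TensorMax Cfsg.Agent.S5637

/-- Tensor decomposition stabilisers are maximal in every dimension. -/
theorem tensor {F : Type*} [Field F] [Fintype F] (n : ℕ) (n₁ n₂ : ℕ) (h1 : 2 ≤ n₁) (h12 : n₁ < n₂) (hex : ¬ (n₁ = 2 ∧ Fintype.card F = 2)) (e : Fin n ≃ Fin n₁ × Fin n₂) (P : Matrix.GeneralLinearGroup (Fin n) F) : Cfsg.Geo.IsMaximalIn (Cfsg.Geo.specialLinear (Fin n) F) (Cfsg.Geo.tensorProductSubgroup n₁ n₂ e P ⊓ Cfsg.Geo.specialLinear (Fin n) F) := by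
  have h2 : 2 ≤ n₂ := by omega
  have hq : 3 ≤ n₁ ∨ 3 ≤ Nat.card F := by
    rw [Nat.card_eq_fintype_card]
    have := Fintype.one_lt_card (α := F)
    omega
  obtain ⟨g, hg, hgT⟩ := exists_not_mem h1 h2 e P
  refine ⟨lt_of_le_not_ge inf_le_right fun hc => hgT (hc hg).1, fun M hM hMK => ?_⟩
  by_contra hne
  push Not at hne
  obtain ⟨g₀, hg₀, hgn⟩ := SetLike.exists_of_lt (lt_of_le_of_ne hM (Ne.symm hne.1))
  have hg₁ : g₀ ∉ Cfsg.Geo.tensorProductSubgroup n₁ n₂ e P := fun h => hgn ⟨h, hMK hg₀⟩
  refine hne.2 (le_antisymm hMK fun x hx => ?_)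
  have hdet : ∀ y, Matrix.GeneralLinearGroup.det ((phi e P).symm y) = Matrix.GeneralLinearGroup.det y :=
    fun y => by rw [← det_phi e P, MulEquiv.apply_symm_apply]
  have hle := specialLinear_le (M.comap (phi e P).toMonoidHom)
    (fun k l hkl => hM ⟨(mem_tensor_iff e P _).mpr (kr_mem k l),
      show Matrix.GeneralLinearGroup.det (phi e P (kr k l)) = 1 by rw [det_phi, hkl]⟩)
    h1 h12 hq (g₀ := (phi e P).symm g₀) (by simpa using hg₀)
    (by rw [hdet]; exact hMK hg₀)
    (fun hm => hg₁ (by simpa using (mem_tensor_iff e P _).mpr hm))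
  have := hle (show (phi e P).symm x ∈ Cfsg.Geo.specialLinear _ F by
    show Matrix.GeneralLinearGroup.det _ = 1
    rw [hdet]; exact hx)
  simpa using this

end Tensor

/-- Subfield groups are maximal in dimension at least six. -/
theorem subfield {F : Type*} [Field F] [Fintype F] (n : ℕ) (hn : 6 ≤ n) (F₀ : Subfield F) (r : ℕ) (hr : r.Prime) (hcard : Fintype.card F = Nat.card F₀ ^ r) (P : Matrix.GeneralLinearGroup (Fin n) F) : Cfsg.Geo.IsMaximalIn (Cfsg.Geo.specialLinear (Fin n) F) (Cfsg.Geo.subfieldSubgroup F₀ P ⊓ Cfsg.Geo.specialLinear (Fin n) F) := by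
  classical
  open Cfsg.Agent.MaxSub Cfsg.Agent.MaxSub.SubfieldMax Matrix in
  exact (by
    have hq : Nat.card F = Nat.card F₀ ^ r := by rw [Nat.card_eq_fintype_card]; exact hcard
    have hq₀ : 2 ≤ Nat.card F₀ := Finite.one_lt_card
    have htop : ∀ T : Subfield F, F₀ ≤ T → T = F₀ ∨ T = ⊤ := by
      intro T hT
      letI : Algebra F₀ T := (Subfield.inclusion hT).toAlgebra
      haveI : IsScalarTower F₀ T F := IsScalarTower.of_algebraMap_eq fun x => rfl
      have hF : Module.finrank F₀ F = r := by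
        have := Module.natCard_eq_pow_finrank (K := F₀) (V := F)
        rw [hq] at this
        exact (Nat.pow_right_injective hq₀ this).symm
      have hmul := Module.finrank_mul_finrank F₀ T F
      rw [hF] at hmul
      rcases hr.eq_one_or_self_of_dvd _ ⟨_, hmul.symm⟩ with h1 | h1
      · left
        refine le_antisymm (fun x hx => ?_) hT
        obtain ⟨c, hc⟩ := (finrank_eq_one_iff_of_nonzero' (1 : T) one_ne_zero).1 h1 ⟨x, hx⟩
        have := congrArg Subtype.val hc
        rw [Algebra.smul_def] at this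
        simp at this
        rw [← this]; exact c.2
      · right
        rw [h1] at hmul
        have h2 : Module.finrank T F = 1 := by
          have := hr.pos
          exact Nat.eq_of_mul_eq_mul_left this (by rw [hmul, mul_one])
        refine eq_top_iff.2 fun x _ => ?_
        obtain ⟨c, hc⟩ := (finrank_eq_one_iff_of_nonzero' (1 : F) one_ne_zero).1 h2 x
        rw [← hc, Algebra.smul_def]
        simp
        exact c.2
    let S := Cfsg.Geo.specialLinear (Fin n) F
    let M₀ := (Matrix.GeneralLinearGroup.map (F₀.subtype : F₀ →+* F)).range ⊔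
      Cfsg.Geo.scalars (Fin n) F
    have hM : ∀ x : Matrix.GeneralLinearGroup (Fin n) F,
        x ∈ Cfsg.Geo.subfieldSubgroup F₀ P ↔ P⁻¹ * x * P ∈ M₀ := by
      intro x
      refine ⟨?_, fun h => ⟨_, h, by simp [mul_assoc]⟩⟩
      rintro ⟨y, hy, rfl⟩
      simpa [mul_assoc] using hy
    have hdetS : ∀ x y : Matrix.GeneralLinearGroup (Fin n) F, y ∈ S → x * y * x⁻¹ ∈ S := by
      intro x y hy
      exact (inferInstance : (MonoidHom.ker
        (Matrix.GeneralLinearGroup.det (n := Fin n) (R := F))).Normal).conj_mem y hy x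
    have hratM : ∀ v φ : Fin n → F, IsRat F₀ v → IsRat F₀ φ → φ ⬝ᵥ v = 0 → tv v φ ∈ M₀ := by
      intro v φ hv hφ h0
      refine Subgroup.mem_sup_left ⟨tv (fun i => (⟨v i, hv i⟩ : F₀)) (fun i => ⟨φ i, hφ i⟩), ?_⟩
      refine Units.ext ?_
      have h0' : (fun i => (⟨φ i, hφ i⟩ : F₀)) ⬝ᵥ (fun i => (⟨v i, hv i⟩ : F₀)) = 0 := by
        refine Subtype.val_injective ?_
        rw [show ((0 : F₀) : F) = 0 from rfl, ← h0]
        exact (map_sum F₀.subtype _ _).trans rfl
      show (tv (fun i => (⟨v i, hv i⟩ : F₀)) (fun i => (⟨φ i, hφ i⟩ : F₀))).1.map F₀.subtype = _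
      rw [tv_coe h0, tv_coe h0']
      ext a b
      simp [Matrix.map_apply, Matrix.one_apply, vecMulVec_apply]
      split_ifs <;> simp
    refine isMaximalIn_of inf_le_right ?_ ?_
    · obtain ⟨c, hc⟩ : ∃ c : F, c ∉ F₀ := by
        by_contra hall
        push Not at hall
        have : Nat.card F ≤ Nat.card F₀ := Nat.card_le_card_of_injective
          (fun x => (⟨x, hall x⟩ : F₀)) fun x y h => congrArg Subtype.val h
        rw [hq] at this
        have h2 : Nat.card F₀ ^ 1 < Nat.card F₀ ^ r := Nat.pow_lt_pow_right hq₀ hr.one_lt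
        rw [pow_one] at h2
        omega
      let a : Fin n := ⟨0, by omega⟩
      let b : Fin n := ⟨1, by omega⟩
      have hab : a ≠ b := by simp [a, b]
      let T := tv (Pi.single a (1 : F)) (Pi.single b c)
      have h0 : Pi.single b c ⬝ᵥ Pi.single a (1 : F) = 0 := by simp [Pi.single_eq_of_ne hab]
      refine ⟨P * T * P⁻¹, hdetS P T (tv_mem_specialLinear _ _), fun hm => ?_⟩
      have hm' : T ∈ M₀ := by
        have := (hM _).1 (Subgroup.mem_inf.1 hm).1
        simpa [mul_assoc] using this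
      haveI := Cfsg.Geo.scalars_normal (ι := Fin n) (F := F)
      obtain ⟨y, hy, z, hz, hyz⟩ := Subgroup.mem_sup_of_normal_right.1 hm'
      obtain ⟨B, rfl⟩ := hy
      obtain ⟨s, hs⟩ := (Cfsg.Geo.mem_scalars_iff z).1 hz
      have hmat := congrArg Units.val hyz
      rw [Units.val_mul, hs, tv_coe h0, Matrix.mul_smul, Matrix.mul_one] at hmat
      have e1 := congrFun (congrFun hmat a) a
      have e2 := congrFun (congrFun hmat a) b
      simp [vecMulVec_apply, Matrix.one_apply, Pi.single_eq_of_ne hab, hab] at e1 e2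
      refine hc ?_
      have hs1 : (s : F) ∈ F₀ := by
        rw [eq_inv_of_mul_eq_one_left e1]; exact inv_mem (SetLike.coe_mem _)
      rw [← e2]
      exact mul_mem hs1 (SetLike.coe_mem _)
    intro M hMM hMS g hg hgM
    let L := M.comap (MulAut.conj P).toMonoidHom
    have hL : HasRat F₀ L := fun v φ hv hφ h0 => by
      show P * tv v φ * P⁻¹ ∈ M
      refine hMM (Subgroup.mem_inf.2 ⟨(hM _).2 ?_, hdetS P _ (tv_mem_specialLinear _ _)⟩)
      simpa [mul_assoc] using hratM v φ hv hφ h0
    set h := P⁻¹ * g * P with hh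
    have hhL : h ∈ L := by show P * h * P⁻¹ ∈ M; simpa [hh, mul_assoc] using hg
    have hhM : h ∉ M₀ := fun hm => hgM (Subgroup.mem_inf.2 ⟨(hM g).2 hm, hMS hg⟩)
    have hn4 : 4 ≤ Fintype.card (Fin n) := by rw [Fintype.card_fin]; omega
    obtain ⟨i, j, a, c, hij, hnr⟩ : ∃ i j a c, i ≠ j ∧
        (h : Matrix (Fin n) (Fin n) F) a i *
          ((h⁻¹ : Matrix.GeneralLinearGroup (Fin n) F) : Matrix (Fin n) (Fin n) F) j c ∉ F₀ := by
      by_contra hall
      push Not at hall
      obtain ⟨s, hs, hsr⟩ := rational_of_conj (by omega) h fun i j a c hij => hall i j a c hij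
      refine hhM ?_
      let B : Matrix (Fin n) (Fin n) F₀ := fun a b => ⟨_, hsr a b⟩
      have hB : B.map F₀.subtype = s⁻¹ • (h : Matrix (Fin n) (Fin n) F) := by
        ext a b; simp only [B, Matrix.map_apply, Matrix.smul_apply, smul_eq_mul]
        exact div_eq_inv_mul _ _
      have hBdet : B.det ≠ 0 := fun e => by
        have := congrArg Matrix.det hB
        rw [← RingHom.mapMatrix_apply, ← RingHom.map_det, e, map_zero, Matrix.det_smul] at this
        rcases mul_eq_zero.1 this.symm with h1 | h1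
        · exact hs (by simpa using eq_zero_of_pow_eq_zero h1)
        · exact (Matrix.isUnit_iff_isUnit_det _).1 h.isUnit |>.ne_zero h1
      have hsc : Units.map (Matrix.scalar (Fin n) : F →+* _).toMonoidHom (Units.mk0 s hs) ∈
          Cfsg.Geo.scalars (Fin n) F := ⟨_, rfl⟩
      have hB' : Matrix.GeneralLinearGroup.map (F₀.subtype : F₀ →+* F)
          (Matrix.GeneralLinearGroup.mkOfDetNeZero B hBdet) ∈ M₀ :=
        Subgroup.mem_sup_left ⟨_, rfl⟩
      convert mul_mem hB' (Subgroup.mem_sup_right hsc) using 1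
      refine Units.ext ?_
      show (h : Matrix (Fin n) (Fin n) F) = B.map F₀.subtype * Matrix.scalar (Fin n) s
      rw [hB, Matrix.scalar_apply, ← Matrix.smul_eq_mul_diagonal, smul_smul,
        mul_inv_cancel₀ hs, one_smul]
    have h0 : Pi.single j (1 : F) ⬝ᵥ Pi.single i (1 : F) = 0 := by simp [Pi.single_eq_of_ne hij]
    have hconj := mul_mem (mul_mem hhL
      (hL _ _ (isRat_single i (one_mem _)) (isRat_single j (one_mem _)) h0)) (inv_mem hhL)
    rw [tv_conj h h0] at hconj
    have hfull := full_of_tv htop hn4 hL (by rw [Fintype.card_fin]; omega) hq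
      (by rw [vecMul_inv_dotProduct]; exact h0) hconj (i := a) (j := c) (by simpa using hnr)
    intro x hx
    have := hfull (hdetS P⁻¹ x hx)
    have h2 : P * (P⁻¹ * x * P⁻¹⁻¹) * P⁻¹ ∈ M := this
    simpa [mul_assoc] using h2)


section Symplectic
open Matrix Cfsg.Agent.MaxSub Cfsg.Agent.S5642

/-- Symplectic similitudes are maximal in dimension at least four. -/
theorem symplectic {F : Type*} [Field F] [Fintype F] (n : ℕ) (hn : 4 ≤ n) (f : (Fin n → F) → (Fin n → F) → F) (hf : Cfsg.Geo.IsSymplecticForm f) : Cfsg.Geo.IsMaximalIn (Cfsg.Geo.specialLinear (Fin n) F) (Cfsg.Geo.similarityGroup f ⊓ Cfsg.Geo.specialLinear (Fin n) F) := by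
  refine isMaximalIn_of inf_le_right ?_ fun M hHM hMK g hg hgH => ?_
  · -- some transvection is not a similitude
    have h0 : NeZero n := ⟨by omega⟩
    set v : Fin n → F := Pi.single 0 1 with hv
    have hv0 : v ≠ 0 := by simp [hv]
    -- `φ` kills `v` and is not a multiple of `rep f v`
    obtain ⟨i, hi⟩ := Function.ne_iff.mp (rep_ne_zero hf.bilinear hf.nondegenerate hv0)
    have hi0 : i ≠ 0 := fun h => hi (by
      subst h
      show f (Pi.single 0 1) v = 0
      exact hf.alternating v)
    obtain ⟨j, hj0, hji⟩ : ∃ j : Fin n, j ≠ 0 ∧ j ≠ i := by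
      by_contra hc
      simp only [not_exists, not_and, not_not] at hc
      have : Finset.univ ⊆ ({0, i} : Finset (Fin n)) := fun j _ => by
        simp only [Finset.mem_insert, Finset.mem_singleton]
        exact (Classical.em (j = 0)).imp id (hc j)
      have h2 := (Finset.card_le_card this).trans Finset.card_le_two
      simp at h2
      omega
    set φ : Fin n → F := Pi.single j 1 with hφ
    have hφv : φ ⬝ᵥ v = 0 := by simp [hφ, hv, hj0]
    have hφn : ∀ a : F, φ ≠ a • rep f v := by
      intro a h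
      have h1 := congrFun h i
      simp [hφ, Ne.symm hji] at h1
      rcases h1 with h1 | h1
      · have h2 := congrFun h j
        simp [hφ, h1] at h2
      · exact hi h1
    refine ⟨tv v φ, tv_mem_specialLinear v φ, fun hmem => ?_⟩
    obtain ⟨c, hc⟩ := hmem.1
    have key : ∀ x y, f x y + (φ ⬝ᵥ y) * f x v + (φ ⬝ᵥ x) * f v y = (c : F) * f x y := by
      intro x y
      rw [← hc x y, tv_mulVec hφv, tv_mulVec hφv]
      simp only [hf.bilinear.add_left, hf.bilinear.add_right, hf.bilinear.smul_left,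
        hf.bilinear.smul_right, hf.alternating]
      ring
    obtain ⟨y, hy⟩ := (hf.nondegenerate v hv0).2
    have hc1 : (c : F) = 1 := by
      have h := key v y
      rw [hf.alternating, hφv] at h
      simp only [mul_zero, add_zero, zero_mul] at h
      exact (mul_eq_right₀ hy).mp h.symm
    apply hφn (-(φ ⬝ᵥ y) / f v y)
    refine dotProduct_eq _ _ fun x => ?_
    rw [smul_dotProduct, rep_dot hf.bilinear, smul_eq_mul]
    have h := key x y
    rw [hc1, one_mul] at h
    field_simp
    linear_combination h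
  · refine specialLinear_le hf (fun v c => hHM ⟨⟨1, fun u w => ?_⟩, tv_mem_specialLinear _ _⟩) hg
      fun hs => hgH ⟨hs, hMK hg⟩
    exact (st_mem_isom hf v c u w).trans (one_mul _).symm

end Symplectic

/-- Orthogonal similitudes are maximal in dimension at least six. -/
theorem quadratic {F : Type*} [Field F] [Fintype F] (n : ℕ) (hn : 6 ≤ n) (hodd : Odd (Fintype.card F)) (Q : (Fin n → F) → F) (hQ : Cfsg.Geo.IsNondegenerateQuadraticForm Q) : Cfsg.Geo.IsMaximalIn (Cfsg.Geo.specialLinear (Fin n) F) (Cfsg.Geo.quadSimilarityGroup Q ⊓ Cfsg.Geo.specialLinear (Fin n) F) := by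
  classical
  obtain ⟨Qf, rfl, hnd⟩ := OrthStab.exists_form hQ
  have h2 : (2 : F) ≠ 0 := fun h => by
    have := CharP.ringChar_of_prime_eq_zero (R := F) Nat.prime_two (by exact_mod_cast h)
    have hev : Even (Fintype.card F) := by
      rw [Nat.even_iff]; exact FiniteField.even_card_iff_char_two.mp this
    exact Nat.not_odd_iff_even.mpr hev hodd
  have hn' : 6 ≤ Fintype.card (Fin n) := by simpa using hn
  refine ⟨lt_of_le_of_ne inf_le_right fun e => ?_, fun M hle hM => ?_⟩
  · -- a transvection that is not a similarity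
    obtain ⟨a, ha0, ha, -⟩ := GeomMax32.Similitude.exists_singular hnd hn' h2
      (![] : Fin 0 → Fin n → F) (by omega)
    obtain ⟨b, hb, hab, -⟩ := OrthStab.exists_partner (S := ⊥) hnd (by simpa using ha0) ha
      fun x hx => by rw [(Submodule.mem_bot F).mp hx, QuadraticMap.polar_zero_right]
    have hmem : MaxSub.tv a (MaxSub.rep (QuadraticMap.polar ⇑Qf) a) ∈
        Cfsg.Geo.specialLinear (Fin n) F := MaxSub.tv_mem_specialLinear _ _
    rw [← e] at hmem
    obtain ⟨c, hc⟩ := hmem.1
    have h := hc b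
    rw [MaxSub.tv_mulVec (by rw [MaxSub.rep_dot (GeomMax32.Similitude.bil Qf),
        UnitaryOrthogonal.polar_self_eq, ha, mul_zero]),
      MaxSub.rep_dot (GeomMax32.Similitude.bil Qf), QuadraticMap.polar_comm, hab, one_smul,
      UnitaryOrthogonal.form_add, hb, ha, QuadraticMap.polar_comm, hab, mul_zero, zero_add,
      zero_add] at h
    exact one_ne_zero h
  · by_cases hMH : M = Cfsg.Geo.quadSimilarityGroup ⇑Qf ⊓ Cfsg.Geo.specialLinear (Fin n) F
    · exact Or.inl hMH
    obtain ⟨g, hgM, hgH⟩ := SetLike.exists_of_lt (lt_of_le_of_ne hle (Ne.symm hMH))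
    exact Or.inr (le_antisymm hM (GeomMax32.Similitude.specialLinear_le hnd hn' h2
      (fun u z hu hz => hle (GeomMax32.Similitude.se_similar hu hz)) hgM fun hg => hgH ⟨hg, hM hgM⟩))


end Cfsg.Agent.GeomMax32.Linear
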